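import Cfsg.Prelude.Def_Classification2

/-!
# S4971: a simple group in which every element is real is strongly real: interface

* `NR G` : some element of `G` is not conjugate to its inverse;
* `SR G` : every element of `G` is inverted by an element `t` with `t * t = 1`;
* `RR G` : `NR G ∨ SR G` (the row property).
Transport under isomorphisms and surjections.
-/

set_option linter.dupNamespace false

namespace Cfsg.Agent.H231.RR

variable {G H : Type*} [Group G] [Group H]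

/-- Some element is not conjugate to its inverse. -/
def NR (G : Type*) [Group G] : Prop := ∃ g : G, ¬ IsConj g g⁻¹

/-- Every element is inverted by an element `t` with `t * t = 1`. -/
def SR (G : Type*) [Group G] : Prop := ∀ g : G, ∃ t : G, t * t = 1 ∧ t * g * t⁻¹ = g⁻¹

/-- The row property. -/
def RR (G : Type*) [Group G] : Prop := NR G ∨ SR G

theorem NR.of_equiv (e : G ≃* H) (h : NR G) : NR H := by
  obtain ⟨g, hg⟩ := h
  refine ⟨e g, fun hc => hg ?_⟩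
  rw [isConj_iff] at hc ⊢
  obtain ⟨c, hc⟩ := hc
  refine ⟨e.symm c, e.injective ?_⟩
  rw [map_mul, map_mul, map_inv, map_inv, e.apply_symm_apply, hc]

/-- `SR` from an element of square one modulo the kernel: `f` surjective, every `g` is inverted
modulo the kernel by some `t` with `t * t` in the kernel. -/
theorem SR.of_surj (f : G →* H) (hf : Function.Surjective f)
    (h : ∀ g : G, ∃ t : G, f (t * t) = 1 ∧ f (t * g * t⁻¹) = f g⁻¹) : SR H := by
  intro y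
  obtain ⟨g, rfl⟩ := hf y
  obtain ⟨t, h1, h2⟩ := h g
  exact ⟨f t, by rw [← map_mul, h1], by rw [← map_mul, ← map_inv, ← map_mul, h2, map_inv]⟩

theorem SR.of_equiv (e : G ≃* H) (h : SR G) : SR H := by
  refine SR.of_surj e.toMonoidHom e.surjective fun g => ?_
  obtain ⟨t, h1, h2⟩ := h g
  exact ⟨t, by rw [h1, map_one], by rw [h2]⟩

/-- `NR` of a quotient: `f` surjective, no `x` inverts `g` modulo the kernel. -/
theorem NR.of_surj (f : G →* H) (hf : Function.Surjective f) (g : G)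
    (h : ∀ x : G, f (x * g * x⁻¹) ≠ f g⁻¹) : NR H := by
  refine ⟨f g, fun hc => ?_⟩
  rw [isConj_iff] at hc
  obtain ⟨c, hc⟩ := hc
  obtain ⟨x, rfl⟩ := hf c
  exact h x (by rw [map_mul, map_mul, map_inv, hc, map_inv])

theorem RR.of_equiv (e : G ≃* H) (h : RR G) : RR H :=
  h.imp (NR.of_equiv e) (SR.of_equiv e)

/-- An element `g` such that no `x` with `x * g * x⁻¹ = g⁻¹` exists. -/
theorem NR.mk (g : G) (h : ∀ x : G, x * g * x⁻¹ ≠ g⁻¹) : NR G :=
  ⟨g, fun hc => by rw [isConj_iff] at hc; obtain ⟨c, hc⟩ := hc; exact h c hc⟩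

/-- If a power of `g` is nonreal then `g` is nonreal. -/
theorem NR.of_pow {g : G} {n : ℕ} (h : ∀ x : G, x * g ^ n * x⁻¹ ≠ (g ^ n)⁻¹) : ∀ x : G, x * g * x⁻¹ ≠ g⁻¹ := by
  intro x hx
  refine h x ?_
  rw [← conj_pow, hx, inv_pow]

/-- An element of prime order `p` with `N(⟨g⟩) / C(⟨g⟩)` of odd order is not real. Form: every element which
normalises `⟨g⟩` and whose square centralises `g` centralises `g`; `g ^ 2 ≠ 1`. -/
theorem NR.of_odd {g : G} (h2 : g * g ≠ 1) (h : ∀ x : G, x * g * x⁻¹ = g⁻¹ → ∃ n : ℕ, Odd n ∧ x ^ n * g = g * x ^ n) :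
    NR G := by
  refine NR.mk g fun x hx => ?_
  obtain ⟨n, ⟨k, rfl⟩, hc⟩ := h x hx
  have h1 : ∀ k : ℕ, x ^ (2 * k) * g * (x ^ (2 * k))⁻¹ = g := by
    intro k
    induction k with
    | zero => simp
    | succ k ih =>
      have : x ^ (2 * (k + 1)) = x * x * x ^ (2 * k) := by rw [mul_add, pow_add, mul_one, ← pow_two, pow_mul_comm]
      rw [this, mul_inv_rev]
      have h3 : x * x * x ^ (2 * k) * g * ((x ^ (2 * k))⁻¹ * (x * x)⁻¹) =
          x * (x * (x ^ (2 * k) * g * (x ^ (2 * k))⁻¹) * x⁻¹) * x⁻¹ := by group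
      rw [h3, ih, hx]
      have h4 : x * g⁻¹ * x⁻¹ = (x * g * x⁻¹)⁻¹ := by group
      rw [h4, hx, inv_inv]
  have h5 : x ^ (2 * k + 1) * g * (x ^ (2 * k + 1))⁻¹ = g⁻¹ := by
    rw [pow_succ', mul_inv_rev]
    have h3 : x * x ^ (2 * k) * g * ((x ^ (2 * k))⁻¹ * x⁻¹) = x * (x ^ (2 * k) * g * (x ^ (2 * k))⁻¹) * x⁻¹ := by group
    rw [h3, h1, hx]
  rw [hc, mul_inv_cancel_right] at h5
  exact h2 (by nth_rw 2 [h5]; exact mul_inv_cancel g)

/-- The conclusion of S4971 from `RR`. -/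
theorem RR.concl (h : RR G) (hreal : ∀ g : G, IsConj g g⁻¹) (g : G) :
    ∃ s t : G, s * s = 1 ∧ t * t = 1 ∧ g = s * t := by
  rcases h with ⟨x, hx⟩ | h
  · exact absurd (hreal x) hx
  · obtain ⟨t, h1, h2⟩ := h g
    have ht : t⁻¹ = t := inv_eq_of_mul_eq_one_left h1
    rw [ht] at h2
    exact ⟨t, t * g, h1, by rw [← mul_assoc, h2, inv_mul_cancel], by rw [← mul_assoc, h1, one_mul]⟩

/-- **The twist trick.** `F` an endomorphism of `Y`, `s`, `u`, `t` with `F s = s`, `F u = u`, `F t = t * s`, `s`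
commutes with `u` and `t`; every element inverting `s * u` inverts `s` (e.g. the orders of `s`, `u` are coprime), no
`c` commuting with `s * u` satisfies `F c = s * s * c`. Then `s * u` and `t (s u) t⁻¹` are not both inverted by
fixed points of `F`. -/
theorem twist {Y : Type*} [Group Y] (F : Y →* Y) {s u t : Y} (hs : F s = s) (ht : F t = t * s)
    (hst : s * t = t * s) (hinv : ∀ x : Y, x * (s * u) * x⁻¹ = (s * u)⁻¹ → x * s * x⁻¹ = s⁻¹)
    (hc : ∀ c : Y, c * (s * u) = s * u * c → F c ≠ s * s * c) :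
    ¬ ((∃ x : Y, F x = x ∧ x * (s * u) * x⁻¹ = (s * u)⁻¹) ∧
      ∃ y : Y, F y = y ∧ y * (t * (s * u) * t⁻¹) * y⁻¹ = (t * (s * u) * t⁻¹)⁻¹) := by
  rintro ⟨⟨x, hx, hx'⟩, y, hy, hy'⟩
  have h1 : x * s * x⁻¹ = s⁻¹ := hinv x hx'
  have h2 : (t⁻¹ * y * t) * (s * u) * (t⁻¹ * y * t)⁻¹ = (s * u)⁻¹ := by
    have : (t⁻¹ * y * t) * (s * u) * (t⁻¹ * y * t)⁻¹ = t⁻¹ * (y * (t * (s * u) * t⁻¹) * y⁻¹) * t := by group
    rw [this, hy']; group
  have h3 : (t⁻¹ * y * t) * s * (t⁻¹ * y * t)⁻¹ = s⁻¹ := hinv _ h2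
  have h4 : F (t⁻¹ * y * t) = s⁻¹ * (t⁻¹ * y * t) * s := by
    rw [map_mul, map_mul, map_inv, hy, ht]; group
  refine hc (x⁻¹ * (t⁻¹ * y * t)) ?_ ?_
  · have h5 : (t⁻¹ * y * t) * (s * u) = (s * u)⁻¹ * (t⁻¹ * y * t) := by rw [← h2]; group
    have h6 : x⁻¹ * (s * u)⁻¹ = (s * u) * x⁻¹ := by
      rw [← hx']; group
    rw [mul_assoc, h5, ← mul_assoc, h6, mul_assoc]
  · rw [map_mul, map_inv, hx, h4]
    have h5 : (t⁻¹ * y * t) * s = s⁻¹ * (t⁻¹ * y * t) := by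
      have := congrArg (· * (t⁻¹ * y * t)) h3
      simpa [mul_assoc] using this
    have h6 : x⁻¹ * s⁻¹ = s * x⁻¹ := by
      rw [← h1]; group
    rw [mul_assoc s⁻¹, h5]
    calc x⁻¹ * (s⁻¹ * (s⁻¹ * (t⁻¹ * y * t))) = (x⁻¹ * s⁻¹) * (s⁻¹ * (t⁻¹ * y * t)) := by group
      _ = s * (x⁻¹ * s⁻¹) * (t⁻¹ * y * t) := by nth_rw 1 [h6]; group
      _ = s * s * (x⁻¹ * (t⁻¹ * y * t)) := by rw [h6]; group

/-- **All rows.** -/
structure Rows : Prop where
  alt : ∀ n : ℕ, 5 ≤ n → RR (alternatingGroup (Fin n))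
  psl : ∀ (F : Type) [Field F] [Fintype F] (n : ℕ), 2 ≤ n → (n = 2 → 4 ≤ Fintype.card F) →
    RR (Matrix.ProjectiveSpecialLinearGroup (Fin n) F)
  psp : ∀ (F : Type) [Field F] [Fintype F] (m : ℕ), 2 ≤ m → (m = 2 → 3 ≤ Fintype.card F) → RR (PSp m F)
  psu : ∀ (F : Type) [Field F] [Fintype F] (n q : ℕ), Fintype.card F = q ^ 2 → 3 ≤ n → ¬ (n = 3 ∧ q = 2) →
    RR (PSU n F q)
  odd : ∀ (F : Type) [Field F] [Fintype F] (m : ℕ), 3 ≤ m → Odd (Fintype.card F) →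
    RR (POmega F (quadFormOdd m F))
  plus : ∀ (F : Type) [Field F] [Fintype F] (m : ℕ), 4 ≤ m → RR (POmega F (quadFormPlus m F))
  minus : ∀ (F : Type) [Field F] [Fintype F] (m : ℕ) (a b : F), 4 ≤ m →
    (∀ z₁ z₂ : F, z₁ ^ 2 + a * z₁ * z₂ + b * z₂ ^ 2 = 0 → z₁ = 0 ∧ z₂ = 0) →
    RR (POmega F (quadFormMinus (m - 1) F a b))
  g2 : ∀ (X : Type) [Group X], Lie.IsoChevG2 X → RR X
  f4 : ∀ (X : Type) [Group X], Lie.IsoF4 X → RR X
  e6 : ∀ (X : Type) [Group X], Lie.IsoChevE6 X → RR X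
  e7 : ∀ (X : Type) [Group X], Lie.IsoE7 X → RR X
  e8 : ∀ (X : Type) [Group X], Lie.IsoE8 X → RR X
  te6 : ∀ (X : Type) [Group X], Lie.Iso2E6 X → RR X
  td4 : ∀ (X : Type) [Group X], Lie.Iso3D4 X → RR X
  sz : ∀ (X : Type) [Group X], Lie.IsoSuzuki X → RR X
  ree : ∀ (X : Type) [Group X], Lie.IsoRee X → RR X
  tf4 : ∀ (X : Type) [Group X], Lie.Iso2F4 X → RR X
  tits : ∀ (X : Type) [Group X], Lie.IsoTits X → RR X
  spor : ∀ (X : Type) [Group X], IsSporadicGroup X → RR X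

end Cfsg.Agent.H231.RR
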